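import Cfsg.Agent.H884.Ex.Types
import Cfsg.Agent.H884.An.Defs

/-!
# S3509, alternating socle: small degrees (helper884)
-/

set_option autoImplicit false
set_option maxRecDepth 100000

namespace Cfsg.Agent.H884.An

open Equiv Equiv.Perm
open scoped commutatorElement
open Cfsg.Agent.H884.Ex (Rep mulC swC prodT cj evW evW_sound prodT_sign cases_of PP allP)

/-- certificates: the leaves are commutators which are three-cycles -/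
inductive Tc (n : ℕ) where
  | leaf (a b c : Fin n) (w1 w2 : List ℕ) : Tc n
  | node (ts : List (Fin n × Fin n)) (l r : Tc n) : Tc n

/-- the check -/
def chc (n : ℕ) (xp xq : List ℕ) : List (List ℕ) → Tc n → Bool
  | L, .leaf a b c w1 w2 => decide (a ≠ b ∧ a ≠ c ∧ b ≠ c) &&
      (mulC (evW n L w1) (evW n L w2) ==
        mulC (mulC (swC n a b) (swC n b c)) (mulC (evW n L w2) (evW n L w1)))
  | L, .node ts l r => (ts.length % 2 == 0) && (ts.all fun p => decide (p.1 ≠ p.2)) &&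
      (chc n xp xq (L ++ [cj n xp ts]) l && chc n xp xq (L ++ [cj n xq ts]) r)

theorem isThreeCycle_swap_mul {α : Type*} [Fintype α] [DecidableEq α] {a b c : α}
    (h1 : a ≠ b) (h2 : a ≠ c) (h3 : b ≠ c) : (swap a b * swap b c).IsThreeCycle := by
  rw [swap_comm a b]
  exact isThreeCycle_swap_mul_swap_same h1.symm h3 h2

theorem chc_sound {n : ℕ} {H : Subgroup (Perm (Fin n))} {p q : Perm (Fin n)} {xp xq : List ℕ}
    (hp : Rep p xp) (hq : Rep q xq)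
    (hcov : ∀ t ∈ alternatingGroup (Fin n), t⁻¹ * p * t ∈ H ∨ t⁻¹ * q * t ∈ H) :
    ∀ (T : Tc n) (L : List (List ℕ)), (∀ c ∈ L, ∃ σ ∈ H, Rep σ c) → chc n xp xq L T = true → ¬ N3 H
  | .leaf a b c w1 w2, L, hL, h => by
    rw [chc, Bool.and_eq_true, decide_eq_true_eq, beq_iff_eq] at h
    obtain ⟨⟨h1, h2, h3⟩, h4⟩ := h
    obtain ⟨u, hu, hu'⟩ := evW_sound hL w1
    obtain ⟨v, hv, hv'⟩ := evW_sound hL w2
    intro hN
    have h5 := hu'.mul hv'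
    rw [h4] at h5
    have h6 := h5.ext (((Rep.sw a b).mul (Rep.sw b c)).mul (hv'.mul hu'))
    have h7 : (⁅u, v⁆ : Perm (Fin n)) = swap a b * swap b c := by
      rw [commutatorElement_def, h6]
      group
    exact hN _ (h7 ▸ Subgroup.commutator_mem_commutator hu hv) (isThreeCycle_swap_mul h1 h2 h3)
  | .node ts l r, L, hL, h => by
    rw [chc, Bool.and_eq_true, Bool.and_eq_true, Bool.and_eq_true, beq_iff_eq, List.all_eq_true] at h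
    obtain ⟨⟨h1, h2⟩, h3, h4⟩ := h
    have hs : prodT ts ∈ alternatingGroup (Fin n) := by
      rw [mem_alternatingGroup, prodT_sign ts (fun p hp => by simpa using h2 p hp)]
      exact (Nat.even_iff.2 h1).neg_one_pow
    rcases hcov _ hs with h5 | h5
    · refine chc_sound hp hq hcov l _ ?_ h3
      intro c hc
      rcases List.mem_append.1 hc with hc | hc
      · exact hL c hc
      · rw [List.mem_singleton.1 hc]
        exact ⟨_, h5, Rep.cj ts hp⟩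
    · refine chc_sound hp hq hcov r _ ?_ h4
      intro c hc
      rcases List.mem_append.1 hc with hc | hc
      · exact hL c hc
      · rw [List.mem_singleton.1 hc]
        exact ⟨_, h5, Rep.cj ts hq⟩

/-- representative -/
def g_u5_32 : Perm (Fin 5) := prodT [(0, 1), (1, 2), (3, 4)]

/-- certificate -/
def tr_u5_32 : Tc 5 :=
  .node []
 (.node [(0, 1), (2, 4)]
 (.leaf 2 4 3 [1] [0])
 (.leaf 0 3 4 [1] [0]))
 (.node [(0, 1), (1, 4), (4, 2), (2, 3)]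
 (.leaf 0 2 1 [1] [0])
 (.leaf 0 3 2 [1] [0]))

theorem chk_u5_32 : chc 5 [0, 1, 2, 4, 3] [2, 0, 1, 3, 4] [] tr_u5_32 = true := by decide +kernel

theorem core_u5_32 {H : Subgroup (Perm (Fin 5))}
    (hcov : ∀ t ∈ alternatingGroup (Fin 5), t⁻¹ * g_u5_32 ^ 3 * t ∈ H ∨ t⁻¹ * g_u5_32 ^ 2 * t ∈ H) : ¬ N3 H :=
  chc_sound (xp := [0, 1, 2, 4, 3]) (xq := [2, 0, 1, 3, 4]) (by unfold Ex.Rep; decide +kernel) (by unfold Ex.Rep; decide +kernel)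
    hcov tr_u5_32 [] (by simp) chk_u5_32

/-- representative -/
def g_u6_32 : Perm (Fin 6) := prodT [(0, 1), (1, 2), (3, 4)]

/-- certificate -/
def tr_u6_32 : Tc 6 :=
  .node []
 (.node [(0, 1), (2, 5), (5, 4), (4, 3)]
 (.leaf 3 4 5 [1] [0])
 (.leaf 0 4 3 [1] [0]))
 (.node [(1, 3), (3, 4), (4, 2), (2, 5)]
 (.leaf 0 1 3 [1] [0])
 (.leaf 0 4 2 [1] [0]))

theorem chk_u6_32 : chc 6 [0, 1, 2, 4, 3, 5] [2, 0, 1, 3, 4, 5] [] tr_u6_32 = true := by decide +kernel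

theorem core_u6_32 {H : Subgroup (Perm (Fin 6))}
    (hcov : ∀ t ∈ alternatingGroup (Fin 6), t⁻¹ * g_u6_32 ^ 3 * t ∈ H ∨ t⁻¹ * g_u6_32 ^ 2 * t ∈ H) : ¬ N3 H :=
  chc_sound (xp := [0, 1, 2, 4, 3, 5]) (xq := [2, 0, 1, 3, 4, 5]) (by unfold Ex.Rep; decide +kernel) (by unfold Ex.Rep; decide +kernel)
    hcov tr_u6_32 [] (by simp) chk_u6_32

/-- representative -/
def g_u8_32 : Perm (Fin 8) := prodT [(0, 1), (1, 2), (3, 4)]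

/-- certificate -/
def tr_u8_32 : Tc 8 :=
  .node []
 (.node [(1, 6), (6, 3), (2, 7), (7, 5)]
 (.leaf 3 4 6 [1] [0])
 (.leaf 0 4 3 [1] [0]))
 (.node [(0, 2), (2, 5), (5, 6), (1, 3), (3, 4), (4, 7)]
 (.leaf 0 1 3 [1] [0])
 (.leaf 0 7 2 [1] [0]))

theorem chk_u8_32 : chc 8 [0, 1, 2, 4, 3, 5, 6, 7] [2, 0, 1, 3, 4, 5, 6, 7] [] tr_u8_32 = true := by decide +kernel

theorem core_u8_32 {H : Subgroup (Perm (Fin 8))}
    (hcov : ∀ t ∈ alternatingGroup (Fin 8), t⁻¹ * g_u8_32 ^ 3 * t ∈ H ∨ t⁻¹ * g_u8_32 ^ 2 * t ∈ H) : ¬ N3 H :=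
  chc_sound (xp := [0, 1, 2, 4, 3, 5, 6, 7]) (xq := [2, 0, 1, 3, 4, 5, 6, 7]) (by unfold Ex.Rep; decide +kernel) (by unfold Ex.Rep; decide +kernel)
    hcov tr_u8_32 [] (by simp) chk_u8_32

/-- representative -/
def g_u8_322 : Perm (Fin 8) := prodT [(0, 1), (1, 2), (3, 4), (5, 6)]

/-- certificate -/
def tr_u8_322 : Tc 8 :=
  .node []
 (.node [(0, 4), (2, 5), (5, 3), (6, 7)]
 (.leaf 0 6 5 [1] [0])
 (.leaf 1 3 4 [1] [0]))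
 (.node [(0, 2), (2, 5), (5, 6), (1, 3), (3, 4), (4, 7)]
 (.leaf 0 2 5 [0, 1, 0] [1])
 (.leaf 0 7 2 [1] [0]))

theorem chk_u8_322 : chc 8 [0, 1, 2, 4, 3, 6, 5, 7] [2, 0, 1, 3, 4, 5, 6, 7] [] tr_u8_322 = true := by decide +kernel

theorem core_u8_322 {H : Subgroup (Perm (Fin 8))}
    (hcov : ∀ t ∈ alternatingGroup (Fin 8), t⁻¹ * g_u8_322 ^ 3 * t ∈ H ∨ t⁻¹ * g_u8_322 ^ 2 * t ∈ H) : ¬ N3 H :=
  chc_sound (xp := [0, 1, 2, 4, 3, 6, 5, 7]) (xq := [2, 0, 1, 3, 4, 5, 6, 7]) (by unfold Ex.Rep; decide +kernel) (by unfold Ex.Rep; decide +kernel)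
    hcov tr_u8_322 [] (by simp) chk_u8_322

/-- representative -/
def g_u8_332 : Perm (Fin 8) := prodT [(0, 1), (1, 2), (3, 4), (4, 5), (6, 7)]

/-- certificate -/
def tr_u8_332 : Tc 8 :=
  .node []
 (.node [(0, 5), (5, 1), (1, 4), (2, 3), (3, 6), (6, 7)]
 (.leaf 3 7 6 [1] [0])
 (.leaf 5 6 7 [1] [0]))
 (.node [(0, 7), (7, 6), (6, 1), (1, 3), (3, 4), (2, 5)]
 (.leaf 0 7 2 [1] [0])
 (.leaf 2 6 5 [0, 1, 1, 0] [1, 0, 1]))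

theorem chk_u8_332 : chc 8 [0, 1, 2, 3, 4, 5, 7, 6] [2, 0, 1, 5, 3, 4, 6, 7] [] tr_u8_332 = true := by decide +kernel

theorem core_u8_332 {H : Subgroup (Perm (Fin 8))}
    (hcov : ∀ t ∈ alternatingGroup (Fin 8), t⁻¹ * g_u8_332 ^ 3 * t ∈ H ∨ t⁻¹ * g_u8_332 ^ 2 * t ∈ H) : ¬ N3 H :=
  chc_sound (xp := [0, 1, 2, 3, 4, 5, 7, 6]) (xq := [2, 0, 1, 5, 3, 4, 6, 7]) (by unfold Ex.Rep; decide +kernel) (by unfold Ex.Rep; decide +kernel)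
    hcov tr_u8_332 [] (by simp) chk_u8_332

/-- representative -/
def g_u8_6 : Perm (Fin 8) := prodT [(0, 1), (1, 2), (2, 3), (3, 4), (4, 5)]

/-- certificate -/
def tr_u8_6 : Tc 8 :=
  .node []
 (.node [(0, 4), (4, 2), (1, 5), (5, 3), (3, 6), (6, 7)]
 (.leaf 0 7 3 [1] [0])
 (.leaf 1 4 5 [0, 1, 0, 1, 0, 1, 0] [1, 0, 1, 1, 0, 1]))
 (.node [(0, 3), (1, 2), (2, 4), (4, 5), (5, 6), (6, 7)]
 (.leaf 0 1 3 [1, 0, 1, 0, 1, 0, 1] [0, 1, 0, 0, 1, 0])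
 (.leaf 1 7 4 [0, 1, 1, 0] [1, 0, 1]))

theorem chk_u8_6 : chc 8 [3, 4, 5, 0, 1, 2, 6, 7] [2, 3, 4, 5, 0, 1, 6, 7] [] tr_u8_6 = true := by decide +kernel

theorem core_u8_6 {H : Subgroup (Perm (Fin 8))}
    (hcov : ∀ t ∈ alternatingGroup (Fin 8), t⁻¹ * g_u8_6 ^ 3 * t ∈ H ∨ t⁻¹ * g_u8_6 ^ 2 * t ∈ H) : ¬ N3 H :=
  chc_sound (xp := [3, 4, 5, 0, 1, 2, 6, 7]) (xq := [2, 3, 4, 5, 0, 1, 6, 7]) (by unfold Ex.Rep; decide +kernel) (by unfold Ex.Rep; decide +kernel)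
    hcov tr_u8_6 [] (by simp) chk_u8_6

/-- representative -/
def g_u8_62 : Perm (Fin 8) := prodT [(0, 1), (1, 2), (2, 3), (3, 4), (4, 5), (6, 7)]

/-- certificate -/
def tr_u8_62 : Tc 8 :=
  .node []
 (.node [(0, 2), (2, 4), (4, 1), (1, 6), (6, 5), (5, 3)]
 (.node [(0, 4), (4, 3), (3, 6), (6, 1), (2, 5), (5, 7)]
 (.node [(0, 3), (3, 5), (5, 6), (6, 2), (2, 4), (1, 7)]
 (.leaf 0 6 2 [2, 1, 0] [3, 0])
 (.leaf 2 4 6 [3, 0, 2] [0, 3]))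
 (.leaf 0 6 5 [2, 1, 2, 1] [0, 2]))
 (.node [(1, 5), (5, 6), (6, 4), (2, 7)]
 (.leaf 1 6 3 [1, 2, 1] [2, 0])
 (.leaf 4 5 6 [0, 2] [1])))
 (.node [(0, 7), (7, 6), (6, 4), (4, 1), (1, 3), (2, 5)]
 (.node [(1, 7), (7, 4), (4, 2), (5, 6)]
 (.leaf 5 6 7 [0, 2] [1, 0])
 (.leaf 2 5 6 [2, 1, 0] [0, 1]))
 (.leaf 3 4 5 [0, 1, 1, 0] [1, 0, 1]))

theorem chk_u8_62 : chc 8 [3, 4, 5, 0, 1, 2, 7, 6] [2, 3, 4, 5, 0, 1, 6, 7] [] tr_u8_62 = true := by decide +kernel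

theorem core_u8_62 {H : Subgroup (Perm (Fin 8))}
    (hcov : ∀ t ∈ alternatingGroup (Fin 8), t⁻¹ * g_u8_62 ^ 3 * t ∈ H ∨ t⁻¹ * g_u8_62 ^ 2 * t ∈ H) : ¬ N3 H :=
  chc_sound (xp := [3, 4, 5, 0, 1, 2, 7, 6]) (xq := [2, 3, 4, 5, 0, 1, 6, 7]) (by unfold Ex.Rep; decide +kernel) (by unfold Ex.Rep; decide +kernel)
    hcov tr_u8_62 [] (by simp) chk_u8_62

/-- representative -/
def g_u8_52 : Perm (Fin 8) := prodT [(0, 1), (1, 2), (2, 3), (3, 4), (5, 6)]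

/-- certificate -/
def tr_u8_52 : Tc 8 :=
  .node []
 (.node [(0, 3), (3, 2), (2, 1), (1, 7), (7, 4), (4, 6)]
 (.leaf 4 6 5 [1] [0])
 (.leaf 3 5 6 [1] [0]))
 (.node [(0, 7), (7, 6), (6, 1), (1, 3), (3, 4), (2, 5)]
 (.leaf 2 7 4 [1] [0])
 (.leaf 2 5 3 [1, 0, 0, 1, 0] [0, 1]))

theorem chk_u8_52 : chc 8 [0, 1, 2, 3, 4, 6, 5, 7] [2, 3, 4, 0, 1, 5, 6, 7] [] tr_u8_52 = true := by decide +kernel

theorem core_u8_52 {H : Subgroup (Perm (Fin 8))}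
    (hcov : ∀ t ∈ alternatingGroup (Fin 8), t⁻¹ * g_u8_52 ^ 5 * t ∈ H ∨ t⁻¹ * g_u8_52 ^ 2 * t ∈ H) : ¬ N3 H :=
  chc_sound (xp := [0, 1, 2, 3, 4, 6, 5, 7]) (xq := [2, 3, 4, 0, 1, 5, 6, 7]) (by unfold Ex.Rep; decide +kernel) (by unfold Ex.Rep; decide +kernel)
    hcov tr_u8_52 [] (by simp) chk_u8_52

/-- representative -/
def g_u8_53 : Perm (Fin 8) := prodT [(0, 1), (1, 2), (2, 3), (3, 4), (5, 6), (6, 7)]

/-- certificate -/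
def tr_u8_53 : Tc 8 :=
  .node []
 (.node [(0, 5), (5, 1), (1, 4), (2, 3), (3, 6), (6, 7)]
 (.leaf 3 5 6 [1] [0])
 (.leaf 2 7 4 [1, 1, 0] [0, 1]))
 (.node [(0, 2), (2, 5), (5, 6), (1, 3), (3, 4), (4, 7)]
 (.leaf 3 5 4 [0, 1, 1, 0] [1])
 (.leaf 1 2 6 [1, 0, 0, 1, 0] [0, 1]))

theorem chk_u8_53 : chc 8 [0, 1, 2, 3, 4, 7, 5, 6] [3, 4, 0, 1, 2, 5, 6, 7] [] tr_u8_53 = true := by decide +kernel

theorem core_u8_53 {H : Subgroup (Perm (Fin 8))}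
    (hcov : ∀ t ∈ alternatingGroup (Fin 8), t⁻¹ * g_u8_53 ^ 5 * t ∈ H ∨ t⁻¹ * g_u8_53 ^ 3 * t ∈ H) : ¬ N3 H :=
  chc_sound (xp := [0, 1, 2, 3, 4, 7, 5, 6]) (xq := [3, 4, 0, 1, 2, 5, 6, 7]) (by unfold Ex.Rep; decide +kernel) (by unfold Ex.Rep; decide +kernel)
    hcov tr_u8_53 [] (by simp) chk_u8_53

/-- representative -/
def g_u8_43 : Perm (Fin 8) := prodT [(0, 1), (1, 2), (2, 3), (4, 5), (5, 6)]

/-- certificate -/
def tr_u8_43 : Tc 8 :=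
  .node []
 (.node [(0, 2), (2, 7), (7, 1), (1, 4), (3, 6), (6, 5)]
 (.leaf 0 4 2 [1] [0])
 (.leaf 1 3 6 [1] [0]))
 (.node [(1, 3), (3, 7), (7, 4), (2, 6)]
 (.leaf 0 5 6 [0, 1, 0] [1])
 (.leaf 2 6 5 [1] [0]))

theorem chk_u8_43 : chc 8 [2, 3, 0, 1, 4, 5, 6, 7] [0, 1, 2, 3, 5, 6, 4, 7] [] tr_u8_43 = true := by decide +kernel

theorem core_u8_43 {H : Subgroup (Perm (Fin 8))}
    (hcov : ∀ t ∈ alternatingGroup (Fin 8), t⁻¹ * g_u8_43 ^ 6 * t ∈ H ∨ t⁻¹ * g_u8_43 ^ 4 * t ∈ H) : ¬ N3 H :=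
  chc_sound (xp := [2, 3, 0, 1, 4, 5, 6, 7]) (xq := [0, 1, 2, 3, 5, 6, 4, 7]) (by unfold Ex.Rep; decide +kernel) (by unfold Ex.Rep; decide +kernel)
    hcov tr_u8_43 [] (by simp) chk_u8_43

/-- representative -/
def g_u7_32 : Perm (Fin 7) := prodT [(0, 1), (1, 2), (3, 4)]

/-- certificate -/
def tr_u7_32 : Tc 7 :=
  .node []
 (.node [(0, 1), (1, 6), (6, 5), (2, 4)]
 (.leaf 2 4 3 [1] [0])
 (.leaf 0 3 4 [1] [0]))
 (.node [(0, 1), (1, 4), (4, 2), (2, 6), (6, 5), (5, 3)]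
 (.leaf 0 1 5 [1] [0])
 (.leaf 0 3 2 [1] [0]))

theorem chk_u7_32 : chc 7 [0, 1, 2, 4, 3, 5, 6] [2, 0, 1, 3, 4, 5, 6] [] tr_u7_32 = true := by decide +kernel

theorem core_u7_32 {H : Subgroup (Perm (Fin 7))}
    (hcov : ∀ t ∈ alternatingGroup (Fin 7), t⁻¹ * g_u7_32 ^ 3 * t ∈ H ∨ t⁻¹ * g_u7_32 ^ 2 * t ∈ H) : ¬ N3 H :=
  chc_sound (xp := [0, 1, 2, 4, 3, 5, 6]) (xq := [2, 0, 1, 3, 4, 5, 6]) (by unfold Ex.Rep; decide +kernel) (by unfold Ex.Rep; decide +kernel)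
    hcov tr_u7_32 [] (by simp) chk_u7_32

/-- representative -/
def g_u7_322 : Perm (Fin 7) := prodT [(0, 1), (1, 2), (3, 4), (5, 6)]

/-- certificate -/
def tr_u7_322 : Tc 7 :=
  .node []
 (.node [(2, 5), (5, 6)]
 (.leaf 2 6 5 [1] [0])
 (.leaf 1 5 6 [1] [0]))
 (.node [(0, 3), (3, 6), (6, 4), (4, 2), (2, 1), (1, 5)]
 (.leaf 1 3 2 [0, 1, 0] [1])
 (.leaf 1 2 5 [1] [0]))

theorem chk_u7_322 : chc 7 [0, 1, 2, 4, 3, 6, 5] [2, 0, 1, 3, 4, 5, 6] [] tr_u7_322 = true := by decide +kernel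

theorem core_u7_322 {H : Subgroup (Perm (Fin 7))}
    (hcov : ∀ t ∈ alternatingGroup (Fin 7), t⁻¹ * g_u7_322 ^ 3 * t ∈ H ∨ t⁻¹ * g_u7_322 ^ 2 * t ∈ H) : ¬ N3 H :=
  chc_sound (xp := [0, 1, 2, 4, 3, 6, 5]) (xq := [2, 0, 1, 3, 4, 5, 6]) (by unfold Ex.Rep; decide +kernel) (by unfold Ex.Rep; decide +kernel)
    hcov tr_u7_322 [] (by simp) chk_u7_322

/-- representative -/
def g_u7_6 : Perm (Fin 7) := prodT [(0, 1), (1, 2), (2, 3), (3, 4), (4, 5)]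

/-- certificate -/
def tr_u7_6 : Tc 7 :=
  .node []
 (.node [(1, 5), (5, 6), (6, 4), (4, 2)]
 (.leaf 2 6 5 [1] [0])
 (.leaf 0 4 1 [0, 1, 0, 1, 0, 1, 0] [1, 0, 1, 1, 0, 1]))
 (.node [(0, 1), (1, 5), (5, 6), (6, 4)]
 (.leaf 1 3 4 [1, 0, 1, 0, 1, 0, 1] [0, 1, 0, 0, 1, 0])
 (.leaf 1 6 2 [0, 1, 1, 0] [1, 0, 1]))

theorem chk_u7_6 : chc 7 [3, 4, 5, 0, 1, 2, 6] [2, 3, 4, 5, 0, 1, 6] [] tr_u7_6 = true := by decide +kernel

theorem core_u7_6 {H : Subgroup (Perm (Fin 7))}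
    (hcov : ∀ t ∈ alternatingGroup (Fin 7), t⁻¹ * g_u7_6 ^ 3 * t ∈ H ∨ t⁻¹ * g_u7_6 ^ 2 * t ∈ H) : ¬ N3 H :=
  chc_sound (xp := [3, 4, 5, 0, 1, 2, 6]) (xq := [2, 3, 4, 5, 0, 1, 6]) (by unfold Ex.Rep; decide +kernel) (by unfold Ex.Rep; decide +kernel)
    hcov tr_u7_6 [] (by simp) chk_u7_6

/-- representative -/
def g_u7_52 : Perm (Fin 7) := prodT [(0, 1), (1, 2), (2, 3), (3, 4), (5, 6)]

/-- certificate -/
def tr_u7_52 : Tc 7 :=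
  .node []
 (.node [(0, 4), (4, 5), (5, 3), (1, 2)]
 (.leaf 4 5 6 [1] [0])
 (.leaf 3 6 5 [1] [0]))
 (.node [(0, 1), (1, 4), (4, 2), (2, 6), (6, 5), (5, 3)]
 (.leaf 2 6 4 [1] [0])
 (.leaf 0 3 2 [1, 1, 0] [0, 1]))

theorem chk_u7_52 : chc 7 [0, 1, 2, 3, 4, 6, 5] [2, 3, 4, 0, 1, 5, 6] [] tr_u7_52 = true := by decide +kernel

theorem core_u7_52 {H : Subgroup (Perm (Fin 7))}
    (hcov : ∀ t ∈ alternatingGroup (Fin 7), t⁻¹ * g_u7_52 ^ 5 * t ∈ H ∨ t⁻¹ * g_u7_52 ^ 2 * t ∈ H) : ¬ N3 H :=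
  chc_sound (xp := [0, 1, 2, 3, 4, 6, 5]) (xq := [2, 3, 4, 0, 1, 5, 6]) (by unfold Ex.Rep; decide +kernel) (by unfold Ex.Rep; decide +kernel)
    hcov tr_u7_52 [] (by simp) chk_u7_52

/-- representative -/
def g_u7_43 : Perm (Fin 7) := prodT [(0, 1), (1, 2), (2, 3), (4, 5), (5, 6)]

/-- certificate -/
def tr_u7_43 : Tc 7 :=
  .node []
 (.node [(0, 4), (4, 5), (5, 3), (1, 2)]
 (.leaf 0 2 5 [1] [0])
 (.leaf 0 4 2 [1] [0]))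
 (.node [(0, 4), (4, 5), (5, 2), (2, 1), (1, 6), (6, 3)]
 (.leaf 3 4 5 [0, 1, 0] [1])
 (.leaf 1 5 4 [1] [0]))

theorem chk_u7_43 : chc 7 [2, 3, 0, 1, 4, 5, 6] [0, 1, 2, 3, 5, 6, 4] [] tr_u7_43 = true := by decide +kernel

theorem core_u7_43 {H : Subgroup (Perm (Fin 7))}
    (hcov : ∀ t ∈ alternatingGroup (Fin 7), t⁻¹ * g_u7_43 ^ 6 * t ∈ H ∨ t⁻¹ * g_u7_43 ^ 4 * t ∈ H) : ¬ N3 H :=
  chc_sound (xp := [2, 3, 0, 1, 4, 5, 6]) (xq := [0, 1, 2, 3, 5, 6, 4]) (by unfold Ex.Rep; decide +kernel) (by unfold Ex.Rep; decide +kernel)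
    hcov tr_u7_43 [] (by simp) chk_u7_43

theorem ct_u5_32 : g_u5_32.cycleType = ↑([3, 2] : List ℕ) := by decide +kernel
theorem ct_u6_32 : g_u6_32.cycleType = ↑([3, 2] : List ℕ) := by decide +kernel
theorem ct_u8_32 : g_u8_32.cycleType = ↑([3, 2] : List ℕ) := by decide +kernel
theorem ct_u8_322 : g_u8_322.cycleType = ↑([3, 2, 2] : List ℕ) := by decide +kernel
theorem ct_u8_332 : g_u8_332.cycleType = ↑([3, 3, 2] : List ℕ) := by decide +kernel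
theorem ct_u8_6 : g_u8_6.cycleType = ↑([6] : List ℕ) := by decide +kernel
theorem ct_u8_62 : g_u8_62.cycleType = ↑([6, 2] : List ℕ) := by decide +kernel
theorem ct_u8_52 : g_u8_52.cycleType = ↑([5, 2] : List ℕ) := by decide +kernel
theorem ct_u8_53 : g_u8_53.cycleType = ↑([5, 3] : List ℕ) := by decide +kernel
theorem ct_u8_43 : g_u8_43.cycleType = ↑([4, 3] : List ℕ) := by decide +kernel
theorem ct_u7_32 : g_u7_32.cycleType = ↑([3, 2] : List ℕ) := by decide +kernel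
theorem ct_u7_322 : g_u7_322.cycleType = ↑([3, 2, 2] : List ℕ) := by decide +kernel
theorem ct_u7_6 : g_u7_6.cycleType = ↑([6] : List ℕ) := by decide +kernel
theorem ct_u7_52 : g_u7_52.cycleType = ↑([5, 2] : List ℕ) := by decide +kernel
theorem ct_u7_43 : g_u7_43.cycleType = ↑([4, 3] : List ℕ) := by decide +kernel

theorem chkE7 : ((List.range (7 + 1)).all fun s => (allP 7 7 s).all fun l =>
      decide (l.foldr Nat.lcm 1 ∈ [1, 2, 3, 4, 5, 7, 8]) || ([[3, 2], [3, 2, 2], [6], [5, 2], [4, 3]] : List (List ℕ)).contains l) = true := by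
  decide +kernel

end Cfsg.Agent.H884.An
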