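import Cfsg.Agent.H390.RR.Alt
import Cfsg.Agent.H237.RR.Imp
import Cfsg.Agent.H884.An.Prim

/-!
# S3509: the alternating row (helper884)
-/

set_option autoImplicit false

namespace Cfsg.Agent.H884.An

open Equiv Equiv.Perm

/-- **the alternating row of S3509** -/
theorem row_alt : Cfsg.Agent.H660.RR.ASRow (fun T _ => ∃ n, 5 ≤ n ∧ Nonempty (T ≃* alternatingGroup (Fin n))) :=
  Cfsg.Agent.H390.RR.as_alt
    (fun n h9 L hL hA g => reg_prim (by rw [Fintype.card_fin]; exact h9) L hL hA g)
    (fun n h9 L hL hP g => Cfsg.Agent.H237.RR.reg_imprim (by rw [Fintype.card_fin]; exact h9) L hL hP g)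

end Cfsg.Agent.H884.An
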